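import Groth.Agent.CohqB.LocBaseHH

/-!
# Multiplication by integers on the cohomology of modules

* `nsmul_eq_zero`: if `p = 0` in `Γ(X, ⊤)`, then `p` kills `H^i(X, M)`;
* `eq_zero_of_nsmul`: if `n` is a unit in `Γ(X, ⊤)`, then `H^i(X, M)` has no `n`-torsion.
-/

set_option autoImplicit false
universe u

open CategoryTheory CategoryTheory.Limits AlgebraicGeometry Opposite

namespace K798.TorH

open Groth.Agent.CohqB.LocBaseHH

variable {X : Scheme.{u}} {M N : X.Modules}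

theorem hmap_nsmul (φ : M ⟶ N) (n i : ℕ) (x : Coh.HH X M i) : hmap (n • φ) i x = n • hmap φ i x := by
  induction n with
  | zero => rw [zero_smul, zero_smul, hmap_zero]
  | succ n ih => rw [succ_nsmul, succ_nsmul, hmap_add, ih]

theorem nsmul_app (φ : M ⟶ N) (n : ℕ) (U : X.Opens) (s : Γ(M, U)) :
    (n • φ).app U s = (n : Γ(X, U)) • φ.app U s := by
  induction n with
  | zero => rw [zero_smul, Nat.cast_zero, zero_smul]; rfl
  | succ n ih =>
    rw [succ_nsmul, Nat.cast_succ, add_smul, one_smul, ← ih]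
    rfl

theorem natCast_res (n : ℕ) (U : X.Opens) : X.presheaf.map (homOfLE le_top).op (n : Γ(X, ⊤)) = (n : Γ(X, U)) :=
  map_natCast (X.presheaf.map (homOfLE (le_top : U ≤ ⊤)).op).hom n

theorem nsmul_hom_eq_zero {p : ℕ} (hp : (p : Γ(X, ⊤)) = 0) (φ : M ⟶ N) : p • φ = 0 := by
  refine Scheme.Modules.hom_ext _ _ fun U => ?_
  ext s
  rw [nsmul_app, ← natCast_res, hp, map_zero, zero_smul]
  rfl

theorem nsmul_eq_zero {p : ℕ} (hp : (p : Γ(X, ⊤)) = 0) (i : ℕ) (x : Coh.HH X M i) : p • x = 0 := by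
  have h := hmap_nsmul (𝟙 M) p i x
  rw [nsmul_hom_eq_zero hp, hmap_zero, hmap_id] at h
  exact h.symm

theorem isIso_nsmul {n : ℕ} (hn : IsUnit (n : Γ(X, ⊤))) : IsIso (n • 𝟙 M) := by
  rw [Scheme.Modules.Hom.isIso_iff_isIso_app]
  intro U
  have hu : IsUnit (n : Γ(X, U)) := by
    rw [← natCast_res]
    exact hn.map (X.presheaf.map (homOfLE le_top).op).hom
  rw [ConcreteCategory.isIso_iff_bijective]
  have h : ∀ s : Γ(M, U), (n • 𝟙 M).app U s = (n : Γ(X, U)) • s := fun s => nsmul_app _ _ _ _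
  obtain ⟨v, hv⟩ := hu
  constructor
  · intro s t hst
    rw [h, h, ← hv] at hst
    have h2 := congrArg (fun z => ((v⁻¹ : (Γ(X, U))ˣ) : Γ(X, U)) • z) hst
    simpa only [smul_smul, Units.inv_mul, one_smul] using h2
  · intro s
    refine ⟨((v⁻¹ : (Γ(X, U))ˣ) : Γ(X, U)) • s, ?_⟩
    rw [h, ← hv, smul_smul, Units.mul_inv, one_smul]

theorem eq_zero_of_nsmul {n : ℕ} (hn : IsUnit (n : Γ(X, ⊤))) (i : ℕ) (x : Coh.HH X M i) (h : n • x = 0) : x = 0 := by
  have := isIso_nsmul (M := M) hn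
  have h1 := hmap_comp (n • 𝟙 M) (inv (n • 𝟙 M)) i x
  rw [IsIso.hom_inv_id, hmap_id, hmap_nsmul, hmap_id, h, map_zero] at h1
  exact h1

end K798.TorH
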