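import Groth.Agent.S0526
import Mathlib.Dynamics.Newton
import Mathlib.LinearAlgebra.Lagrange
import Mathlib.FieldTheory.IsAlgClosed.Basic

/-!
# Roots of units in integral algebras over henselian pairs with algebraically closed quotient
-/

set_option autoImplicit false
universe u

namespace K798.UnitRoot

open Polynomial

/-- Units of an algebra integral over an algebraically closed field have `n`-th roots (`n` invertible). -/
theorem exists_root_integral {K B : Type*} [Field K] [IsAlgClosed K] [CommRing B] [Algebra K B] {v : B}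
    (hv : IsUnit v) (hi : IsIntegral K v) {n : ℕ} (hn : 0 < n) (hnB : IsUnit (n : B)) : ∃ w : B, w ^ n = v := by
  classical
  obtain ⟨g, hg, hgv⟩ := hi
  choose r hr using fun a : K => IsAlgClosed.exists_pow_nat_eq a hn
  let h₀ : K[X] := Lagrange.interpolate g.roots.toFinset id r
  have h₀r : ∀ a ∈ g.roots, h₀.eval a ^ n = a := by
    intro a ha
    have h1 : h₀.eval (id a) = r a :=
      Lagrange.eval_interpolate_at_node r (Set.injOn_id _) (Multiset.mem_toFinset.2 ha)
    have h2 : h₀.eval a = r a := h1
    rw [h2, hr]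
  have hdvd : ∀ a ∈ g.roots, (X - C a) ∣ (h₀ ^ n - X) := by
    intro a ha
    rw [dvd_iff_isRoot, IsRoot.def, eval_sub, eval_pow, eval_X, h₀r a ha, sub_self]
  have hg2 : g ∣ (h₀ ^ n - X) ^ (Multiset.card g.roots) := by
    have h1 := Multiset.prod_dvd_prod_of_dvd (S := g.roots) (fun a => X - C a) (fun _ => h₀ ^ n - X) hdvd
    rw [Multiset.map_const', Multiset.prod_replicate] at h1
    rwa [← (IsAlgClosed.splits g).eq_prod_roots_of_monic hg] at h1
  have hnil : IsNilpotent (aeval v h₀ ^ n - v) := by
    refine ⟨Multiset.card g.roots, ?_⟩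
    obtain ⟨q, hq⟩ := hg2
    have h1 := congrArg (aeval v) hq
    rw [map_pow, map_sub, map_pow, aeval_X, map_mul] at h1
    rw [h1]
    have h2 : aeval v g = 0 := hgv
    rw [h2, zero_mul]
  have hu : IsUnit (aeval v h₀) := by
    have h1 : IsUnit (aeval v h₀ ^ n) := by
      have h2 := (hnil.isUnit_add_left_of_commute hv (Commute.all _ _))
      rwa [add_sub_cancel] at h2
    exact (isUnit_pow_iff hn.ne').1 h1
  obtain ⟨w, ⟨-, hw⟩, -⟩ := existsUnique_nilpotent_sub_and_aeval_eq_zero (P := (X ^ n - C v : B[X]))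
    (x := aeval v h₀) (by simpa using hnil) (by
      simp only [derivative_sub, derivative_X_pow, derivative_C, sub_zero]
      rw [coe_aeval_eq_eval, eval_mul, eval_C, eval_pow, eval_X]
      exact hnB.mul (hu.pow _))
  refine ⟨w, ?_⟩
  rw [coe_aeval_eq_eval, eval_sub, eval_pow, eval_X, eval_C] at hw
  exact sub_eq_zero.1 hw

/-- Units of an algebra integral over a henselian pair with algebraically closed quotient have `n`-th roots. -/
theorem exists_root_hens {D E : Type u} [CommRing D] [CommRing E] [Algebra D E] [Algebra.IsIntegral D E]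
    (I : Ideal D) [HenselianRing D I] {K : Type u} [Field K] [IsAlgClosed K] (φ : K →+* D)
    (hφ : ∀ d : D, ∃ a : K, d - φ a ∈ I) {n : ℕ} (hn : 0 < n) (hnE : IsUnit (n : E)) (v : Eˣ) :
    ∃ w : Eˣ, w ^ n = v := by
  have hH := Groth.Agent.S0526.result D I E
  set J : Ideal E := I.map (algebraMap D E) with hJ
  let f : K →+* E ⧸ J := (Ideal.Quotient.mk J).comp ((algebraMap D E).comp φ)
  have hf : f.IsIntegral := by
    have h1 : f = (Ideal.quotientMap J (algebraMap D E) Ideal.le_comap_map).comp
        ((Ideal.Quotient.mk I).comp φ) := by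
      ext a
      rfl
    rw [h1]
    refine RingHom.IsIntegral.trans _ _ (RingHom.isIntegral_of_surjective _ ?_) ?_
    · intro d
      obtain ⟨d, rfl⟩ := Ideal.Quotient.mk_surjective d
      obtain ⟨a, ha⟩ := hφ d
      exact ⟨a, (Ideal.Quotient.eq.2 ha).symm⟩
    · have h2 : ((Ideal.quotientMap J (algebraMap D E) Ideal.le_comap_map).comp
          (Ideal.Quotient.mk I)).IsIntegral := by
        have h3 : (Ideal.quotientMap J (algebraMap D E) Ideal.le_comap_map).comp (Ideal.Quotient.mk I) =
            (Ideal.Quotient.mk J).comp (algebraMap D E) := by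
          ext a
          rfl
        rw [h3]
        exact RingHom.IsIntegral.trans _ _ (algebraMap_isIntegral_iff.2 inferInstance)
          (RingHom.isIntegral_of_surjective _ Ideal.Quotient.mk_surjective)
      exact RingHom.IsIntegral.tower_top _ _ h2
  let _ : Algebra K (E ⧸ J) := f.toAlgebra
  have hvu : IsUnit (Ideal.Quotient.mk J (v : E)) := v.isUnit.map _
  have hnJ : IsUnit ((n : ℕ) : E ⧸ J) := by
    have := hnE.map (Ideal.Quotient.mk J)
    rwa [map_natCast] at this
  obtain ⟨w, hw⟩ := exists_root_integral (K := K) hvu (hf _) hn hnJ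
  obtain ⟨a₀, rfl⟩ := Ideal.Quotient.mk_surjective w
  have hau : IsUnit (Ideal.Quotient.mk J a₀) := (isUnit_pow_iff hn.ne').1 (by rw [hw]; exact hvu)
  obtain ⟨a, ha, -⟩ := HenselianRing.is_henselian (I := J) (X ^ n - C (v : E)) (monic_X_pow_sub_C _ hn.ne') a₀
    (by
      rw [eval_sub, eval_pow, eval_X, eval_C, ← Ideal.Quotient.eq_zero_iff_mem, map_sub, map_pow, hw, sub_self])
    (by
      simp only [derivative_sub, derivative_X_pow, derivative_C, sub_zero]
      rw [eval_mul, eval_C, eval_pow, eval_X, map_mul, map_pow, map_natCast]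
      exact hnJ.mul (hau.pow _))
  rw [IsRoot.def, eval_sub, eval_pow, eval_X, eval_C, sub_eq_zero] at ha
  have hau' : IsUnit a := (isUnit_pow_iff hn.ne').1 (by rw [ha]; exact v.isUnit)
  refine ⟨hau'.unit, Units.ext ?_⟩
  rw [Units.val_pow_eq_pow_val, IsUnit.unit_spec, ha]

end K798.UnitRoot
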